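import Mathlib

/-!
Abelian heart of a t-structure; H⁰ is homological.
-/

set_option backward.isDefEq.respectTransparency false
set_option backward.defeqAttrib.useBackward true

universe v u v' u'

open CategoryTheory CategoryTheory.Limits CategoryTheory.Pretriangulated CategoryTheory.Triangulated

namespace Groth.Agent.PervHeartAb

variable {C : Type u} [Category.{v} C] [Preadditive C] [HasZeroObject C] [HasShift C ℤ]
  [∀ n : ℤ, (shiftFunctor C n).Additive] [Pretriangulated C] (t : TStructure C)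
  {H : Type u'} [Category.{v'} H] [Preadditive H] [t.Heart H]

lemma hom_shift_neg_eq_zero ⦃X Y : H⦄ ⦃n : ℤ⦄
    (f : t.ιHeart.obj X ⟶ (t.ιHeart.obj Y)⟦n⟧) (hn : n < 0) : f = 0 := by
  have : t.IsGE ((t.ιHeart.obj Y)⟦n⟧) (-n) := t.isGE_shift _ 0 n (-n) (by lia)
  exact t.zero f 0 (-n) (by lia)

lemma exists_obj (A : C) [t.IsLE A 0] [t.IsGE A 0] : ∃ X : H, Nonempty (t.ιHeart.obj X ≅ A) := by
  have h : t.heart A := (t.mem_heart_iff A).2 ⟨inferInstance, inferInstance⟩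
  rw [← t.essImage_ιHeart H] at h
  exact h

lemma admissible [IsTriangulated C] :
    AbelianSubcategory.admissibleMorphism (t.ιHeart (H := H)) = ⊤ := by
  ext X₁ X₂ f₁
  simp only [MorphismProperty.top_apply, iff_true]
  intro X₃ f₂ f₃ hT
  have hrot := rot_of_distTriang _ hT
  have h1L : t.IsLE ((t.ιHeart.obj X₁)⟦(1 : ℤ)⟧) 0 :=
    have := t.isLE_shift (t.ιHeart.obj X₁) 0 1 (-1) (by lia)
    t.isLE_of_le _ (-1) 0
  have h1G : t.IsGE ((t.ιHeart.obj X₁)⟦(1 : ℤ)⟧) (-1) :=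
    t.isGE_shift (t.ιHeart.obj X₁) 0 1 (-1) (by lia)
  have h2G : t.IsGE (t.ιHeart.obj X₂) (-1) := t.isGE_of_ge _ (-1) 0
  have hL : t.IsLE X₃ 0 := t.isLE₂ _ hrot 0 (inferInstanceAs (t.IsLE (t.ιHeart.obj X₂) 0)) h1L
  have hG : t.IsGE X₃ (-1) := t.isGE₂ _ hrot (-1) h2G h1G
  have hVL : t.IsLE ((t.truncLT 0).obj X₃) (-1) := t.isLE_truncLT_obj _ _ _
  have : t.IsLE (((t.truncLT 0).obj X₃)⟦(-1 : ℤ)⟧) 0 := t.isLE_shift _ (-1) (-1) 0 (by lia)
  have : t.IsGE (((t.truncLT 0).obj X₃)⟦(-1 : ℤ)⟧) 0 := t.isGE_shift _ (-1) (-1) 0 (by lia)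
  obtain ⟨K, ⟨eK⟩⟩ := exists_obj t (H := H) (((t.truncLT 0).obj X₃)⟦(-1 : ℤ)⟧)
  obtain ⟨Q, ⟨eQ⟩⟩ := exists_obj t (H := H) ((t.truncGE 0).obj X₃)
  let φ : (t.ιHeart.obj K)⟦(1 : ℤ)⟧ ≅ (t.truncLT 0).obj X₃ :=
    (shiftFunctor C (1 : ℤ)).mapIso eK ≪≫ (shiftFunctorCompIsoId C (-1 : ℤ) 1 (by lia)).app _
  refine ⟨K, Q, φ.hom ≫ (t.truncLTι 0).app X₃, (t.truncGEπ 0).app X₃ ≫ eQ.inv,
    eQ.hom ≫ (t.truncGEδLT 0).app X₃ ≫ φ.inv⟦(1 : ℤ)⟧', ?_⟩
  refine isomorphic_distinguished _ (t.triangleLTGE_distinguished 0 X₃) _ ?_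
  refine Triangle.isoMk _ _ φ (Iso.refl _) eQ ?_ ?_ ?_
  · exact Category.comp_id _
  · change ((t.truncGEπ 0).app X₃ ≫ eQ.inv) ≫ eQ.hom = 𝟙 X₃ ≫ (t.truncGEπ 0).app X₃
    simp
  · change (eQ.hom ≫ (t.truncGEδLT 0).app X₃ ≫ (shiftFunctor C (1 : ℤ)).map φ.inv) ≫
      (shiftFunctor C (1 : ℤ)).map φ.hom = eQ.hom ≫ (t.truncGEδLT 0).app X₃
    simp [← Functor.map_comp]

include t in
lemma hasZeroObject : HasZeroObject H := by
  obtain ⟨O, hO⟩ := (inferInstance : HasZeroObject C).zero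
  have : t.IsLE O 0 := t.isLE_of_isZero hO 0
  have : t.IsGE O 0 := t.isGE_of_isZero hO 0
  obtain ⟨Z, ⟨e⟩⟩ := exists_obj t (H := H) O
  refine ⟨⟨Z, ?_⟩⟩
  rw [IsZero.iff_id_eq_zero]
  apply t.ιHeart.map_injective
  rw [CategoryTheory.Functor.map_id, CategoryTheory.Functor.map_zero]
  exact (IsZero.iff_id_eq_zero _).1 (IsZero.of_iso hO e)

include t in
lemma hasBinaryBiproducts : HasBinaryBiproducts H := ⟨fun X Y => by
  have := t.isLE₂ _ (binaryBiproductTriangle_distinguished (t.ιHeart.obj X) (t.ιHeart.obj Y)) 0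
    (inferInstanceAs (t.IsLE (t.ιHeart.obj X) 0)) (inferInstanceAs (t.IsLE (t.ιHeart.obj Y) 0))
  have := t.isGE₂ _ (binaryBiproductTriangle_distinguished (t.ιHeart.obj X) (t.ιHeart.obj Y)) 0
    (inferInstanceAs (t.IsGE (t.ιHeart.obj X) 0)) (inferInstanceAs (t.IsGE (t.ιHeart.obj Y) 0))
  obtain ⟨P, ⟨e⟩⟩ := exists_obj t (H := H)
    (binaryBiproductTriangle (t.ιHeart.obj X) (t.ιHeart.obj Y)).obj₂
  change t.ιHeart.obj P ≅ (t.ιHeart.obj X ⊞ t.ιHeart.obj Y) at e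
  let b : BinaryBicone X Y :=
    { pt := P
      fst := t.ιHeart.preimage (e.hom ≫ biprod.fst)
      snd := t.ιHeart.preimage (e.hom ≫ biprod.snd)
      inl := t.ιHeart.preimage (biprod.inl ≫ e.inv)
      inr := t.ιHeart.preimage (biprod.inr ≫ e.inv)
      inl_fst := t.ιHeart.map_injective (by simp)
      inl_snd := t.ιHeart.map_injective (by simp)
      inr_fst := t.ιHeart.map_injective (by simp)
      inr_snd := t.ιHeart.map_injective (by simp) }
  refine hasBinaryBiproduct_of_total b (t.ιHeart.map_injective ?_)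
  simp only [b, Functor.map_add, Functor.map_comp, Functor.map_preimage, Category.assoc]
  simp only [← Category.assoc biprod.fst, ← Category.assoc biprod.snd, ← Preadditive.comp_add,
    ← Preadditive.add_comp, biprod.total, Category.id_comp, Iso.hom_inv_id, CategoryTheory.Functor.map_id]
  ⟩

/-- The abelian structure on the heart. -/
@[instance_reducible]
noncomputable def abelianHeart [IsTriangulated C] : Abelian H := by
  haveI := hasZeroObject t (H := H)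
  haveI := hasBinaryBiproducts t (H := H)
  haveI : HasFiniteProducts H := hasFiniteProducts_of_has_binary_and_terminal
  exact AbelianSubcategory.abelian (t.ιHeart (H := H)) (hom_shift_neg_eq_zero t) (admissible t)

section H0

variable [IsTriangulated C]

/-- Exactness of H⁰, up to refinements, on the level of C. -/
lemma refinement (T : Triangle C) (hT : T ∈ distTriang C) (A : C) [t.IsLE A 0] [t.IsGE A 0]
    (s : A ⟶ (t.truncGE 0).obj T.obj₂) (hs : s ≫ (t.truncGE 0).map T.mor₂ = 0) :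
    ∃ (A' : C) (π : A' ⟶ A) (x : A' ⟶ (t.truncGE 0).obj T.obj₁),
      t.IsLE A' 0 ∧ t.IsGE A' 0 ∧
      (∀ (B : C) (a : A ⟶ B), t.IsGE B 0 → π ≫ a = 0 → a = 0) ∧
      π ≫ s = x ≫ (t.truncGE 0).map T.mor₁ := by
  let V := (t.truncLT 0).obj T.obj₂
  let δ : (t.truncGE 0).obj T.obj₂ ⟶ V⟦(1 : ℤ)⟧ := (t.truncGEδLT 0).app T.obj₂
  obtain ⟨W, f, p, hW⟩ := distinguished_cocone_triangle₂ (s ≫ δ)
  obtain ⟨b, hb⟩ : ∃ b : W ⟶ T.obj₂, p ≫ s = b ≫ (t.truncGEπ 0).app T.obj₂ := by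
    obtain ⟨b, -, hb⟩ := complete_distinguished_triangle_morphism₂ _ _ hW
      (t.triangleLTGE_distinguished 0 T.obj₂) (𝟙 V) s (by
        change (s ≫ δ) ≫ (shiftFunctor C (1 : ℤ)).map (𝟙 V) = s ≫ δ
        simp)
    exact ⟨b, hb⟩
  have hV : t.IsLE V (-1) := t.isLE_truncLT_obj _ _ _
  have hV0 : t.IsLE V 0 := t.isLE_of_le _ (-1) 0
  have hWL : t.IsLE W 0 := t.isLE₂ _ hW 0 hV0 (inferInstanceAs (t.IsLE A 0))
  have hg : (b ≫ T.mor₂) ≫ (t.truncGEπ 0).app T.obj₃ = 0 := by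
    have hn : T.mor₂ ≫ (t.truncGEπ 0).app T.obj₃ =
        (t.truncGEπ 0).app T.obj₂ ≫ (t.truncGE 0).map T.mor₂ :=
      ((t.truncGEπ 0).naturality T.mor₂)
    calc (b ≫ T.mor₂) ≫ (t.truncGEπ 0).app T.obj₃
        = b ≫ (t.truncGEπ 0).app T.obj₂ ≫ (t.truncGE 0).map T.mor₂ := by
          rw [Category.assoc]; exact congr_arg (b ≫ ·) hn
      _ = 0 := by rw [← Category.assoc, ← hb, Category.assoc, hs, comp_zero]
  obtain ⟨g, hg'⟩ : ∃ g : W ⟶ (t.truncLT 0).obj T.obj₃, b ≫ T.mor₂ = g ≫ (t.truncLTι 0).app T.obj₃ :=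
    Triangle.coyoneda_exact₂ _ (t.triangleLTGE_distinguished 0 T.obj₃) (b ≫ T.mor₂) hg
  obtain ⟨W', q, d, hW'⟩ := distinguished_cocone_triangle₁ g
  have hqg : q ≫ g = 0 := comp_distTriang_mor_zero₁₂ _ hW'
  have hVZ : t.IsLE ((t.truncLT 0).obj T.obj₃) (-1) := t.isLE_truncLT_obj _ _ _
  have hW'L : t.IsLE W' 0 := t.isLE₂ _ (inv_rot_of_distTriang _ hW') 0
    (t.isLE_shift ((t.truncLT 0).obj T.obj₃) (-1) (-1) 0 (by lia)) hWL
  have hz : (q ≫ b) ≫ T.mor₂ = 0 := by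
    rw [Category.assoc, hg', ← Category.assoc, hqg, zero_comp]
  obtain ⟨x, hx⟩ := Triangle.coyoneda_exact₂ _ hT (q ≫ b) hz
  refine ⟨(t.truncGE 0).obj W', t.descTruncGE (q ≫ p) 0, (t.truncGE 0).map x, inferInstance,
    inferInstance, fun B a hB ha => ?_, ?_⟩
  · have h0 : q ≫ p ≫ a = 0 := by
      rw [← Category.assoc, ← t.π_descTruncGE (q ≫ p) 0, Category.assoc, ha, comp_zero]
    obtain ⟨a₁, ha₁⟩ : ∃ a₁ : (t.truncLT 0).obj T.obj₃ ⟶ B, p ≫ a = g ≫ a₁ :=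
      Triangle.yoneda_exact₂ _ hW' (p ≫ a) h0
    have : a₁ = 0 := t.zero a₁ (-1) 0 (by lia)
    rw [this, comp_zero] at ha₁
    obtain ⟨c, hc⟩ : ∃ c : V⟦(1 : ℤ)⟧ ⟶ B, a = (s ≫ δ) ≫ c :=
      Triangle.yoneda_exact₃ _ hW a ha₁
    have : t.IsLE (V⟦(1 : ℤ)⟧) (-2) := t.isLE_shift V (-1) 1 (-2) (by lia)
    have : c = 0 := t.zero c (-2) 0 (by lia)
    rw [hc, this, comp_zero]
  · apply t.from_truncGE_obj_ext
    rw [← Category.assoc, t.π_descTruncGE, Category.assoc, hb, ← Category.assoc, hx,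
      ← Functor.map_comp]
    exact ((t.truncGEπ 0).naturality (x ≫ T.mor₁))

end H0

lemma isHomological [IsTriangulated C] {H : Type u'} [Category.{v'} H] [Abelian H] [t.Heart H]
    (H0 : C ⥤ H) (e : H0 ⋙ t.ιHeart ≅ t.truncGE 0 ⋙ t.truncLE 0) : H0.IsHomological := by
  haveI hz : H0.PreservesZeroMorphisms := ⟨fun X Y => t.ιHeart.map_injective (by
    have := e.hom.naturality (0 : X ⟶ Y)
    rw [← cancel_mono (e.hom.app Y)]
    simp only [Functor.comp_map, Functor.map_zero, comp_zero, zero_comp] at this ⊢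
    exact this)⟩
  refine { exact := fun T hT => ?_ }
  rw [ShortComplex.exact_iff_exact_up_to_refinements]
  intro A x₂ hx₂
  change A ⟶ H0.obj T.obj₂ at x₂
  change x₂ ≫ H0.map T.mor₂ = 0 at hx₂
  let j : ∀ X : C, t.ιHeart.obj (H0.obj X) ⟶ (t.truncGE 0).obj X := fun X =>
    e.hom.app X ≫ (t.truncLEι 0).app ((t.truncGE 0).obj X)
  have hj : ∀ {X Y : C} (u : X ⟶ Y),
      t.ιHeart.map (H0.map u) ≫ j Y = j X ≫ (t.truncGE 0).map u := by
    intro X Y u
    have h1 := e.hom.naturality_assoc u ((t.truncLEι 0).app ((t.truncGE 0).obj Y))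
    have h2 := (t.truncLEι 0).naturality ((t.truncGE 0).map u)
    simp only [Functor.comp_map, Functor.id_map] at h1 h2
    simp only [j, Category.assoc, h1, h2]
  obtain ⟨A', π, x, hA'L, hA'G, hπ, hcomm⟩ := refinement t T hT (t.ιHeart.obj A)
    (t.ιHeart.map x₂ ≫ j _) (by
      rw [Category.assoc, ← hj, ← Category.assoc, ← Functor.map_comp, hx₂, Functor.map_zero,
        zero_comp])
  obtain ⟨A'', ⟨eA⟩⟩ := exists_obj t (H := H) A'
  refine ⟨A'', t.ιHeart.preimage (eA.hom ≫ π), ⟨fun {B} a a' h => ?_⟩, t.ιHeart.preimage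
    (t.liftTruncLE (eA.hom ≫ x) 0 ≫ e.inv.app _), t.ιHeart.map_injective ?_⟩
  · have h' := congr_arg t.ιHeart.map h
    simp only [Functor.map_comp, Functor.map_preimage, Category.assoc, cancel_epi] at h'
    apply t.ιHeart.map_injective
    rw [← sub_eq_zero]
    exact hπ _ _ inferInstance (by rw [Preadditive.comp_sub, h', sub_self])
  · simp only [Functor.map_comp, Functor.map_preimage, shortComplexOfDistTriangle,
      ShortComplex.map_f]
    rw [← cancel_mono (e.hom.app T.obj₂)]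
    apply t.to_truncLE_obj_ext
    simp only [Category.assoc]
    change eA.hom ≫ π ≫ t.ιHeart.map x₂ ≫ j T.obj₂ = _ ≫ _ ≫ t.ιHeart.map (H0.map T.mor₁) ≫ j _
    rw [hj]
    simp [j, hcomm, reassoc_of% (t.liftTruncLE_ι (eA.hom ≫ x) 0)]

section ShortExact

lemma shortExact_iff [IsTriangulated C] {H : Type u'} [Category.{v'} H] [Abelian H] [t.Heart H]
    {X Y Z : H} (u : X ⟶ Y) (v : Y ⟶ Z) :
    (∃ huv : u ≫ v = 0, (ShortComplex.mk u v huv).ShortExact) ↔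
      ∃ (w : t.ιHeart.obj Z ⟶ (t.ιHeart.obj X)⟦(1 : ℤ)⟧),
        Triangle.mk (t.ιHeart.map u) (t.ιHeart.map v) w ∈ distTriang C := by
  constructor
  · rintro ⟨huv, hS⟩
    have : Epi v := hS.epi_g
    obtain ⟨X', i, δ, hI⟩ := AbelianSubcategory.exists_distinguished_triangle_of_epi
      (hom_shift_neg_eq_zero t (H := H)) (admissible t) v
    let hk := AbelianSubcategory.isLimitKernelForkOfDistTriang
      (hom_shift_neg_eq_zero t (H := H)) i v δ hI
    let φ : X ≅ X' := IsLimit.conePointUniqueUpToIso hS.fIsKernel hk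
    have hφ : φ.hom ≫ i = u :=
      IsLimit.conePointUniqueUpToIso_hom_comp hS.fIsKernel hk WalkingParallelPair.zero
    refine ⟨δ ≫ (t.ιHeart.map φ.inv)⟦(1 : ℤ)⟧', isomorphic_distinguished _ hI _ ?_⟩
    refine Triangle.isoMk _ _ (t.ιHeart.mapIso φ) (Iso.refl _) (Iso.refl _) ?_ ?_ ?_
    · change t.ιHeart.map u ≫ 𝟙 _ = t.ιHeart.map φ.hom ≫ t.ιHeart.map i
      rw [Category.comp_id, ← Functor.map_comp, hφ]
    · exact (Category.comp_id _).trans (Category.id_comp _).symm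
    · change (δ ≫ (shiftFunctor C (1 : ℤ)).map (t.ιHeart.map φ.inv)) ≫
        (shiftFunctor C (1 : ℤ)).map (t.ιHeart.map φ.hom) = 𝟙 _ ≫ δ
      rw [Category.id_comp, Category.assoc, ← Functor.map_comp, ← Functor.map_comp, φ.inv_hom_id]
      simp
  · rintro ⟨w, hw⟩
    have huv : u ≫ v = 0 := t.ιHeart.map_injective (by
      rw [Functor.map_comp, Functor.map_zero]
      exact comp_distTriang_mor_zero₁₂ _ hw)
    have hK := AbelianSubcategory.isLimitKernelForkOfDistTriang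
      (hom_shift_neg_eq_zero t (H := H)) u v w hw
    have hC := AbelianSubcategory.isColimitCokernelCoforkOfDistTriang
      (hom_shift_neg_eq_zero t (H := H)) u v w hw
    haveI : Mono u := Fork.IsLimit.mono hK
    haveI : Epi v := Cofork.IsColimit.epi hC
    exact ⟨huv, { exact := ShortComplex.exact_of_f_is_kernel _ hK }⟩

end ShortExact

end Groth.Agent.PervHeartAb
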